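import Mathlib

/-!
# Two-dimensional representations of dihedral Hecke algebras and the Feit-Higman number theory

For `mθ ∈ 2π ℤ`: trigonometric sums over `i < m`, traces of alternating words in two Hecke generators,
and the final rationality argument `m ∈ {2, 3, 4, 6, 8}`.
-/

set_option autoImplicit false

namespace Cfsg.Agent.FeitHigman

open Real

/-- Data of an angle: `mθ = 2πj` and `sin θ ≠ 0`. -/
structure Angle (m : ℕ) (θ : ℝ) : Prop where
  per : ∃ j : ℕ, (m : ℝ) * θ = j * (2 * π)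
  sin_ne : sin θ ≠ 0

/-- `sin (iθ) / sin θ` -/
noncomputable def sr (θ : ℝ) (i : ℕ) : ℝ := sin (i * θ) / sin θ

theorem sr_zero (θ : ℝ) : sr θ 0 = 0 := by simp [sr]

theorem sr_one {θ : ℝ} (h : sin θ ≠ 0) : sr θ 1 = 1 := by simp [sr, h]

theorem sr_rec (θ : ℝ) (i : ℕ) : sr θ (i + 2) = 2 * cos θ * sr θ (i + 1) - sr θ i := by
  have h : sin ((i + 2 : ℕ) * θ) + sin (i * θ) = 2 * cos θ * sin ((i + 1 : ℕ) * θ) := by
    have e1 : ((i + 2 : ℕ) : ℝ) * θ = ((i + 1 : ℕ) : ℝ) * θ + θ := by push_cast; ring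
    have e2 : (i : ℝ) * θ = ((i + 1 : ℕ) : ℝ) * θ - θ := by push_cast; ring
    rw [e1, e2, sin_add, sin_sub]; ring
  rw [sr, sr, sr, eq_sub_iff_add_eq, ← add_div, h, mul_div_assoc]

theorem cos_rec {θ : ℝ} (h : sin θ ≠ 0) (i : ℕ) :
    cos θ * sr θ (i + 1) - sr θ i = cos ((i + 1 : ℕ) * θ) := by
  have e2 : (i : ℝ) * θ = ((i + 1 : ℕ) : ℝ) * θ - θ := by push_cast; ring
  rw [sr, sr, e2, sin_sub]
  field_simp
  ring

namespace Angle

variable {m : ℕ} {θ : ℝ}

theorem sin_sub_nat (hA : Angle m θ) {i : ℕ} (hi : i ≤ m) : sin ((m - i : ℕ) * θ) = - sin (i * θ) := by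
  obtain ⟨j, hj⟩ := hA.per
  rw [Nat.cast_sub hi, sub_mul, hj, Real.sin_nat_mul_two_pi_sub]

theorem cos_sub_nat (hA : Angle m θ) {i : ℕ} (hi : i ≤ m) : cos ((m - i : ℕ) * θ) = cos (i * θ) := by
  obtain ⟨j, hj⟩ := hA.per
  rw [Nat.cast_sub hi, sub_mul, hj, Real.cos_nat_mul_two_pi_sub]

theorem sr_sub_nat (hA : Angle m θ) {i : ℕ} (hi : i ≤ m) : sr θ (m - i) = - sr θ i := by
  rw [sr, sr, hA.sin_sub_nat hi, neg_div]

theorem cos_sum (hA : Angle m θ) (x : ℝ) : ∑ i ∈ Finset.range m, cos (x + 2 * i * θ) = 0 := by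
  have key : ∀ k : ℕ, 2 * sin θ * ∑ i ∈ Finset.range k, cos (x + 2 * i * θ) =
      sin (x + 2 * k * θ - θ) - sin (x - θ) := by
    intro k
    induction k with
    | zero => simp
    | succ k ih =>
      rw [Finset.sum_range_succ, mul_add, ih]
      have e : x + 2 * ((k + 1 : ℕ) : ℝ) * θ - θ = (x + 2 * k * θ) + θ := by push_cast; ring
      rw [e, sin_add, sin_sub (x + 2 * k * θ) θ]; ring
  obtain ⟨j, hj⟩ := hA.per
  have h := key m
  have e : x + 2 * (m : ℝ) * θ - θ = (x - θ) + ((2 * j : ℕ) : ℝ) * (2 * π) := by push_cast; linarith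
  rw [e, sin_add_nat_mul_two_pi, sub_self] at h
  exact (mul_eq_zero.1 h).resolve_left (mul_ne_zero two_ne_zero hA.sin_ne)

theorem cos_sq_sum (hA : Angle m θ) : ∑ i ∈ Finset.range m, (2 * cos ((i : ℝ) * θ)) ^ 2 = (2 * m : ℝ) := by
  have h : ∀ i : ℕ, (2 * cos (i * θ)) ^ 2 = 2 + 2 * cos (0 + 2 * i * θ) := by
    intro i
    rw [zero_add, mul_assoc 2 (i : ℝ) θ, cos_two_mul]; ring
  rw [Finset.sum_congr rfl fun i _ => h i, Finset.sum_add_distrib, ← Finset.mul_sum, hA.cos_sum]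
  simp [mul_comm]

theorem odd_sum (hA : Angle m θ) (A B : ℝ) : ∑ i ∈ Finset.range m, (A * sr θ (i + 1) + B * sr θ i) ^ 2
    = m * (A ^ 2 + B ^ 2 + 2 * A * B * cos θ) / (2 * sin θ ^ 2) := by
  have h : ∀ i : ℕ, (A * sr θ (i + 1) + B * sr θ i) ^ 2 =
      ((A ^ 2 + B ^ 2 + 2 * A * B * cos θ) - A ^ 2 * cos (2 * θ + 2 * i * θ) - B ^ 2 * cos (0 + 2 * i * θ)
        - 2 * A * B * cos (θ + 2 * i * θ)) / (2 * sin θ ^ 2) := by
    intro i
    have e1 : cos (0 + 2 * i * θ) = 1 - 2 * sin (i * θ) ^ 2 := by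
      rw [zero_add, mul_assoc 2 (i : ℝ) θ, cos_two_mul, Real.cos_sq']; ring
    have e2 : cos (2 * θ + 2 * i * θ) = 1 - 2 * sin ((i + 1 : ℕ) * θ) ^ 2 := by
      rw [show 2 * θ + 2 * (i : ℝ) * θ = 2 * (((i + 1 : ℕ) : ℝ) * θ) by push_cast; ring, cos_two_mul, Real.cos_sq']
      ring
    have e3 : cos (θ + 2 * i * θ) = cos θ - 2 * sin ((i + 1 : ℕ) * θ) * sin (i * θ) := by
      have a : θ + 2 * (i : ℝ) * θ = ((i + 1 : ℕ) : ℝ) * θ + i * θ := by push_cast; ring
      have b : θ = ((i + 1 : ℕ) : ℝ) * θ - i * θ := by push_cast; ring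
      rw [a]
      conv_rhs => arg 1; rw [b]
      rw [cos_add, cos_sub]; ring
    rw [e1, e2, e3, sr, sr]
    field_simp [hA.sin_ne]
    ring
  rw [Finset.sum_congr rfl fun i _ => h i, ← Finset.sum_div]
  congr 1
  simp only [Finset.sum_sub_distrib, ← Finset.mul_sum, hA.cos_sum]
  simp
  ring

end Angle

/-! ### Matrices -/

/-- the first generator -/
noncomputable def genX (σ τ θ : ℝ) : Matrix (Fin 2) (Fin 2) ℝ :=
  !![-1, σ ^ 2 + τ ^ 2 + 2 * σ * τ * cos θ; 0, σ ^ 2]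

/-- the second generator -/
def genY (τ : ℝ) : Matrix (Fin 2) (Fin 2) ℝ := !![τ ^ 2, 0; 1, -1]

/-- what is used about a pair of generators -/
structure GenPair (σ τ θ : ℝ) (X Y : Matrix (Fin 2) (Fin 2) ℝ) : Prop where
  sqX : X * X = (σ ^ 2 - 1) • X + σ ^ 2 • (1 : Matrix (Fin 2) (Fin 2) ℝ)
  trX : X.trace = σ ^ 2 - 1
  trY : Y.trace = τ ^ 2 - 1
  trXY : (X * Y).trace = 2 * (σ * τ) * cos θ
  sqXY : (X * Y) * (X * Y) = (2 * (σ * τ) * cos θ) • (X * Y) - (σ * τ) ^ 2 • (1 : Matrix (Fin 2) (Fin 2) ℝ)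

theorem genPair_XY (σ τ θ : ℝ) : GenPair σ τ θ (genX σ τ θ) (genY τ) := by
  constructor <;> simp only [genX, genY]
  · ext i j; fin_cases i <;> fin_cases j <;> simp [Matrix.mul_fin_two] <;> ring
  · simp [Matrix.trace_fin_two]; ring
  · simp [Matrix.trace_fin_two]; ring
  · simp [Matrix.mul_fin_two, Matrix.trace_fin_two]; ring
  · ext i j; fin_cases i <;> fin_cases j <;> simp [Matrix.mul_fin_two] <;> ring

theorem genPair_YX (σ τ θ : ℝ) : GenPair τ σ θ (genY τ) (genX σ τ θ) := by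
  constructor <;> simp only [genX, genY]
  · ext i j; fin_cases i <;> fin_cases j <;> simp [Matrix.mul_fin_two] <;> ring
  · simp [Matrix.trace_fin_two]; ring
  · simp [Matrix.trace_fin_two]; ring
  · simp [Matrix.mul_fin_two, Matrix.trace_fin_two]; ring
  · ext i j; fin_cases i <;> fin_cases j <;> simp [Matrix.mul_fin_two] <;> ring

namespace GenPair

variable {σ τ θ : ℝ} {X Y : Matrix (Fin 2) (Fin 2) ℝ}

theorem pow_succ_eq (h : GenPair σ τ θ X Y) (hs : sin θ ≠ 0) (i : ℕ) : (X * Y) ^ (i + 1) =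
    ((σ * τ) ^ i * sr θ (i + 1)) • (X * Y) - ((σ * τ) ^ (i + 1) * sr θ i) • (1 : Matrix (Fin 2) (Fin 2) ℝ) := by
  induction i with
  | zero => simp [sr_one hs, sr_zero]
  | succ i ih =>
    rw [pow_succ, ih, sub_mul, smul_mul_assoc, smul_mul_assoc, one_mul, h.sqXY, sr_rec θ i]
    module

theorem trace_pow (h : GenPair σ τ θ X Y) (hs : sin θ ≠ 0) (i : ℕ) :
    ((X * Y) ^ i).trace = (σ * τ) ^ i * (2 * cos (i * θ)) := by
  rcases i with - | i
  · simp [Matrix.trace_fin_two]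
  rw [h.pow_succ_eq hs, Matrix.trace_sub, Matrix.trace_smul, Matrix.trace_smul, h.trXY, ← cos_rec hs i]
  simp [Matrix.trace_fin_two]
  ring

theorem trace_pow_mul (h : GenPair σ τ θ X Y) (hs : sin θ ≠ 0) (hσ : σ ≠ 0) (hτ : τ ≠ 0) (i : ℕ) :
    ((X * Y) ^ i * X).trace =
      σ * (σ * τ) ^ i * ((σ ^ 2 - 1) / σ * sr θ (i + 1) + (τ ^ 2 - 1) / τ * sr θ i) := by
  rcases i with - | i
  · simp [h.trX, sr_one hs, sr_zero]; field_simp
  have h3 : (X * Y * X).trace = (σ ^ 2 - 1) * (2 * (σ * τ) * cos θ) + σ ^ 2 * (τ ^ 2 - 1) := by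
    rw [Matrix.trace_mul_comm, ← mul_assoc, h.sqX, add_mul, smul_mul_assoc, smul_mul_assoc, one_mul,
      Matrix.trace_add, Matrix.trace_smul, Matrix.trace_smul, h.trXY, h.trY, smul_eq_mul, smul_eq_mul]
  rw [h.pow_succ_eq hs, sub_mul, smul_mul_assoc, smul_mul_assoc, one_mul, Matrix.trace_sub, Matrix.trace_smul,
    Matrix.trace_smul, h3, h.trX, sr_rec θ i, smul_eq_mul, smul_eq_mul]
  field_simp
  ring

end GenPair

theorem braid_even {σ τ θ : ℝ} {k : ℕ} (hA : Angle (2 * k) θ) :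
    (genX σ τ θ * genY τ) ^ k = (genY τ * genX σ τ θ) ^ k := by
  rcases k with - | k
  · simp
  have h0 : sr θ (k + 1) = 0 := by
    have := hA.sr_sub_nat (i := k + 1) (by omega)
    rw [show 2 * (k + 1) - (k + 1) = k + 1 by omega] at this
    linarith
  rw [(genPair_XY σ τ θ).pow_succ_eq hA.sin_ne, (genPair_YX σ τ θ).pow_succ_eq hA.sin_ne, h0, mul_comm τ σ]
  simp

theorem braid_odd {σ θ : ℝ} {k : ℕ} (hA : Angle (2 * k + 1) θ) :
    (genX σ σ θ * genY σ) ^ k * genX σ σ θ = (genY σ * genX σ σ θ) ^ k * genY σ := by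
  rcases k with - | k
  · exfalso
    obtain ⟨j, hj⟩ := hA.per
    apply hA.sin_ne
    have : θ = (j : ℝ) * (2 * π) := by simpa using hj
    rw [this, ← mul_assoc, show (j : ℝ) * 2 = ((j * 2 : ℕ) : ℝ) by push_cast; rfl, sin_nat_mul_pi]
  have h0 : sr θ k = (2 * cos θ + 1) * sr θ (k + 1) := by
    have h := hA.sr_sub_nat (i := k + 1) (by omega)
    rw [show 2 * (k + 1) + 1 - (k + 1) = k + 2 by omega, sr_rec θ k] at h
    linarith
  rw [(genPair_XY σ σ θ).pow_succ_eq hA.sin_ne, (genPair_YX σ σ θ).pow_succ_eq hA.sin_ne, h0]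
  have key : genX σ σ θ * genY σ * genX σ σ θ - (σ * σ * (2 * cos θ + 1)) • genX σ σ θ
      = genY σ * genX σ σ θ * genY σ - (σ * σ * (2 * cos θ + 1)) • genY σ := by
    simp only [genX, genY]
    ext i j; fin_cases i <;> fin_cases j <;> simp [Matrix.mul_fin_two] <;> ring
  have h := congrArg (((σ * σ) ^ k * sr θ (k + 1)) • ·) key
  simp only [smul_sub, smul_smul] at h
  rw [sub_mul, sub_mul, smul_mul_assoc, smul_mul_assoc, smul_mul_assoc, smul_mul_assoc, one_mul, one_mul]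
  convert h using 3 <;> ring

theorem scalar_of_commute {σ τ θ : ℝ} (hσ : 0 < σ) (hτ : 0 < τ) (hs : sin θ ≠ 0) (M : Matrix (Fin 2) (Fin 2) ℝ)
    (hX : M * genX σ τ θ = genX σ τ θ * M) (hY : M * genY τ = genY τ * M) :
    M = M 0 0 • (1 : Matrix (Fin 2) (Fin 2) ℝ) := by
  have hc : -1 < cos θ := by
    have h := neg_one_le_cos θ
    rcases h.lt_or_eq with h | h
    · exact h
    · exfalso; apply hs
      have := sin_sq_add_cos_sq θ
      rw [← h] at this
      exact pow_eq_zero_iff (n := 2) (by norm_num) |>.1 (by linarith)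
  have hμ : σ ^ 2 + τ ^ 2 + 2 * σ * τ * cos θ ≠ 0 := by
    have h1 : σ ^ 2 + τ ^ 2 + 2 * σ * τ * cos θ = (σ - τ) ^ 2 + 2 * (σ * τ) * (1 + cos θ) := by ring
    have h2 : 0 < 2 * (σ * τ) * (1 + cos θ) := mul_pos (by positivity) (by linarith)
    rw [h1]; positivity
  have a := congrFun (congrFun hX 0) 0
  have b := congrFun (congrFun hX 0) 1
  have c := congrFun (congrFun hY 1) 0
  simp [genX, genY, Matrix.mul_apply, Fin.sum_univ_two] at a b c
  have hr : M 1 0 = 0 := a.resolve_left hμ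
  rw [hr] at c
  have hps : M 1 1 = M 0 0 := by linarith
  rw [hps] at b
  have hq : M 0 1 = 0 := by
    have hb : M 0 1 * (σ ^ 2 + 1) = 0 := by linarith
    exact (mul_eq_zero.1 hb).resolve_right (by positivity)
  ext i j
  fin_cases i <;> fin_cases j <;> simp [hr, hps, hq]

/-! ### The number theory -/

/-- the rationals inside the reals -/
noncomputable def ratField : Subfield ℝ := (Rat.castHom ℝ).fieldRange

theorem mem_ratField {x : ℝ} : x ∈ ratField ↔ ∃ q : ℚ, x = q := by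
  simp [ratField, RingHom.mem_fieldRange, eq_comm]

theorem nat_mem_ratField (n : ℕ) : (n : ℝ) ∈ ratField := natCast_mem _ n

theorem cos_rational {m j : ℕ} (hm : 0 < m) (hj : 2 * j ≤ m) (h : cos (2 * π * j / m) ∈ ratField) :
    j = 0 ∨ 6 * j = m ∨ 4 * j = m ∨ 3 * j = m ∨ 2 * j = m := by
  have hm' : (m : ℚ) ≠ 0 := by exact_mod_cast hm.ne'
  have h1 := niven_angle_div_pi_eq (r := (2 * j / m : ℚ)) (by
    obtain ⟨q, hq⟩ := mem_ratField.1 h
    exact ⟨q, by rw [← hq]; congr 1; push_cast; ring⟩) ⟨by positivity, by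
      rw [div_le_one (by exact_mod_cast hm)]; exact_mod_cast hj⟩
  simp only [Set.mem_insert_iff, Set.mem_singleton_iff] at h1
  rcases h1 with h1 | h1 | h1 | h1 | h1 <;> field_simp at h1
  · left
    have : ((j : ℕ) : ℚ) = 0 := by linarith
    exact_mod_cast this
  · right; left
    have : ((6 * j : ℕ) : ℚ) = m := by push_cast; linarith
    exact_mod_cast this
  · right; right; left
    have : ((4 * j : ℕ) : ℚ) = m := by push_cast; linarith
    exact_mod_cast this
  · right; right; right; left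
    have : ((3 * j : ℕ) : ℚ) = m := by push_cast; linarith
    exact_mod_cast this
  · right; right; right; right
    have : ((2 * j : ℕ) : ℚ) = m := by push_cast; linarith
    exact_mod_cast this

set_option maxHeartbeats 1000000 in
theorem feit_higman_numbers {m a b : ℕ} (hm : 2 ≤ m) (ha : 2 ≤ a) (hb : 2 ≤ b) {σ τ : ℝ}
    (hσ : σ ^ 2 = a) (hτ : τ ^ 2 = b) (hab : Odd m → σ = τ)
    (hrat : ∀ j : ℕ, 0 < j → j < m → 2 * j ≠ m →
      (((σ ^ 2 - 1) / σ) ^ 2 + ((τ ^ 2 - 1) / τ) ^ 2 +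
        2 * ((σ ^ 2 - 1) / σ) * ((τ ^ 2 - 1) / τ) * cos (2 * π * j / m)) / sin (2 * π * j / m) ^ 2 ∈ ratField) :
    m = 2 ∨ m = 3 ∨ m = 4 ∨ m = 6 ∨ m = 8 := by
  have ha' : (2 : ℝ) ≤ a := by exact_mod_cast ha
  have hb' : (2 : ℝ) ≤ b := by exact_mod_cast hb
  set A := (σ ^ 2 - 1) / σ with hA
  set B := (τ ^ 2 - 1) / τ with hB
  have hA2 : A ^ 2 ∈ ratField := by
    rw [hA, div_pow, hσ]
    exact div_mem (pow_mem (sub_mem (nat_mem_ratField a) (one_mem _)) 2) (nat_mem_ratField a)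
  have hB2 : B ^ 2 ∈ ratField := by
    rw [hB, div_pow, hτ]
    exact div_mem (pow_mem (sub_mem (nat_mem_ratField b) (one_mem _)) 2) (nat_mem_ratField b)
  have hA0 : A ≠ 0 := by
    rw [hA]; refine div_ne_zero (by rw [hσ]; linarith) ?_
    intro h; rw [h] at hσ; norm_num at hσ; linarith
  have hB0 : B ≠ 0 := by
    rw [hB]; refine div_ne_zero (by rw [hτ]; linarith) ?_
    intro h; rw [h] at hτ; norm_num at hτ; linarith
  have hmR : (0 : ℝ) < m := by exact_mod_cast (show 0 < m by omega)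
  set c : ℕ → ℝ := fun j => cos (2 * π * j / m) with hc
  have hsin : ∀ j : ℕ, 0 < j → j < m → 2 * j ≠ m → sin (2 * π * j / m) ^ 2 = 1 - c j ^ 2 ∧ 1 - c j ^ 2 ≠ 0 := by
    intro j h1 h2 h3
    refine ⟨Real.sin_sq _, fun h => ?_⟩
    rw [← Real.sin_sq, pow_eq_zero_iff (by norm_num), Real.sin_eq_zero_iff] at h
    obtain ⟨k, hk⟩ := h
    rw [eq_div_iff hmR.ne'] at hk
    have hk2 : ((k * m : ℤ) : ℝ) = ((2 * j : ℕ) : ℤ) := by
      push_cast
      refine mul_left_cancel₀ pi_ne_zero ?_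
      linarith
    have hk3 : k * (m : ℤ) = ((2 * j : ℕ) : ℤ) := Int.cast_injective hk2
    push_cast at hk3
    rcases lt_trichotomy k 1 with hk1 | hk1 | hk1
    · have : k ≤ 0 := by omega
      nlinarith
    · rw [hk1, one_mul] at hk3; omega
    · have : 2 ≤ k := by omega
      nlinarith
  have hR : ∀ j : ℕ, 0 < j → j < m → 2 * j ≠ m →
      (A ^ 2 + B ^ 2 + 2 * A * B * c j) / (1 - c j ^ 2) ∈ ratField := by
    intro j h1 h2 h3
    rw [← (hsin j h1 h2 h3).1]
    exact hrat j h1 h2 h3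
  rcases Nat.even_or_odd m with ⟨k, hk⟩ | hodd
  · -- even
    rcases eq_or_ne k 1 with rfl | hk1
    · left; omega
    have h1 : 0 < 1 ∧ 1 < m ∧ 2 * 1 ≠ m := by omega
    have h2 : 0 < k - 1 ∧ k - 1 < m ∧ 2 * (k - 1) ≠ m := by omega
    have hneg : c (k - 1) = - c 1 := by
      simp only [hc]
      rw [← cos_pi_sub]
      congr 1
      rw [Nat.cast_sub (by omega), show (m : ℝ) = k + k by rw [hk]; push_cast; rfl]
      have : (k : ℝ) ≠ 0 := by exact_mod_cast (show k ≠ 0 by omega)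
      field_simp
      push_cast
      ring
    have hp := hR 1 h1.1 h1.2.1 h1.2.2
    have hn := hR (k - 1) h2.1 h2.2.1 h2.2.2
    rw [hneg, neg_sq] at hn
    obtain ⟨-, hne⟩ := hsin 1 h1.1 h1.2.1 h1.2.2
    set C := c 1 with hC
    -- the squared cosine is rational
    have hsum : (1 : ℝ) - C ^ 2 ∈ ratField := by
      have hpos : (A ^ 2 + B ^ 2) ≠ 0 := by positivity
      have h3 := add_mem hp hn
      have e : (A ^ 2 + B ^ 2 + 2 * A * B * C) / (1 - C ^ 2) + (A ^ 2 + B ^ 2 + 2 * A * B * -C) / (1 - C ^ 2)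
          = (2 * (A ^ 2 + B ^ 2)) / (1 - C ^ 2) := by ring
      rw [e] at h3
      have h4 := div_mem (mul_mem (natCast_mem ratField 2) (add_mem hA2 hB2)) h3
      convert h4 using 1
      push_cast
      field_simp
    have hc2 : cos (2 * π * ((2 : ℕ) : ℝ) / m) ∈ ratField := by
      have e : cos (2 * π * ((2 : ℕ) : ℝ) / m) = 1 - 2 * (1 - C ^ 2) := by
        rw [hC, hc, show 2 * π * ((2 : ℕ) : ℝ) / m = 2 * (2 * π * ((1 : ℕ) : ℝ) / m) by push_cast; ring, cos_two_mul]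
        ring
      rw [e]
      exact sub_mem (one_mem _) (mul_mem (natCast_mem ratField 2) hsum)
    have hABC : A * B * C ∈ ratField := by
      have h3 := sub_mem hp hn
      have e : (A ^ 2 + B ^ 2 + 2 * A * B * C) / (1 - C ^ 2) - (A ^ 2 + B ^ 2 + 2 * A * B * -C) / (1 - C ^ 2)
          = 4 * (A * B * C) / (1 - C ^ 2) := by ring
      rw [e] at h3
      have h4 := div_mem (mul_mem h3 hsum) (natCast_mem ratField 4)
      convert h4 using 1
      push_cast
      field_simp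
    rcases cos_rational (j := 2) (by omega) (by omega) hc2 with h | h | h | h | h
    · omega
    · -- m = 12
      exfalso
      have hC3 : C = √3 / 2 := by
        rw [hC, hc, ← cos_pi_div_six]
        congr 1
        rw [show (m : ℝ) = 12 by exact_mod_cast h.symm]; push_cast; ring
      have hd2 : c 2 = 1 / 2 := by
        rw [hc, ← cos_pi_div_three]
        congr 1
        rw [show (m : ℝ) = 12 by exact_mod_cast h.symm]; push_cast; ring
      have h5 := hR 2 (by omega) (by omega) (by omega)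
      rw [hd2] at h5
      have hAB : A * B ∈ ratField := by
        have h6 := sub_mem (sub_mem (mul_mem h5 (div_mem (natCast_mem ratField 3) (natCast_mem ratField 4))) hA2) hB2
        convert h6 using 1
        push_cast
        ring
      have hsq : √3 ∈ ratField := by
        have h7 := mul_mem (div_mem hABC hAB) (natCast_mem ratField 2)
        convert h7 using 1
        rw [hC3]; push_cast; field_simp
      obtain ⟨q, hq⟩ := mem_ratField.1 hsq
      exact Nat.Prime.irrational_sqrt Nat.prime_three ⟨q, by push_cast; exact hq.symm⟩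
    · omega
    · omega
    · omega
  · -- odd
    have h1 : 0 < 1 ∧ 1 < m ∧ 2 * 1 ≠ m := by rcases hodd with ⟨k, hk⟩; omega
    have hp := hR 1 h1.1 h1.2.1 h1.2.2
    obtain ⟨-, hne⟩ := hsin 1 h1.1 h1.2.1 h1.2.2
    have hBA : B = A := by rw [hA, hB, hab hodd]
    rw [hBA] at hp
    have hcos : c 1 ∈ ratField := by
      have hm1 : (1 : ℝ) + c 1 ≠ 0 := fun h => hne (by linear_combination (1 - c 1) * h)
      have hm2 : (1 : ℝ) - c 1 ≠ 0 := fun h => hne (by linear_combination (1 + c 1) * h)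
      have e : (A ^ 2 + A ^ 2 + 2 * A * A * c 1) / (1 - c 1 ^ 2) = 2 * A ^ 2 / (1 - c 1) := by
        field_simp
        ring
      rw [e] at hp
      have h4 := sub_mem (one_mem ratField) (div_mem (mul_mem (natCast_mem ratField 2) hA2) hp)
      convert h4 using 1
      push_cast
      field_simp
      ring
    rcases cos_rational (j := 1) (by omega) (by omega) hcos with h | h | h | h | h <;>
      rcases hodd with ⟨k, hk⟩ <;> omega

end Cfsg.Agent.FeitHigman
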