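import Cfsg.Agent.Lib.BNPair.Coxeter
import Cfsg.Agent.Lib.FeitHigman.Trig

/-!
# The Hecke algebra of a finite (B,N)-pair of rank two and the Feit-Higman theorem

The incidence operators of the cells on `G ⧸ B` span an algebra with trace form `tr (T_u T_w) = v q_u δ`.
For a two-dimensional character `χ` the element dual to `χ` is, up to a scalar `c`, an idempotent, so
`2 v / c` is an integer; this makes `(A² + B² + 2AB cos θ)/sin² θ` rational.
-/

set_option autoImplicit false

namespace Cfsg.Agent.FeitHigman

open Cfsg BN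

variable {G : Type*} [Group G] (P : BNPair G)

/-- length parity -/
theorem len_word_parity (l : List P.S) : len P (word P l) % 2 = l.length % 2 := by
  induction l with
  | nil => rw [word_nil, (len_eq_zero P).2 rfl]; rfl
  | cons s l ih =>
    rw [word_cons, List.length_cons]
    rcases len_refl_mul_cases P s (word P l) with h | h <;> omega

theorem refl_inj_cancel (a : P.S) (l : List P.S) : word P (a :: a :: l) = word P l := by
  rw [word_cons, word_cons, refl_cancel_left]

/-- the product of the first two generators -/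
def rot (s t : P.S) : Weyl P := refl P s * refl P t

theorem rot_swap (s t : P.S) : rot P t s = (rot P s t)⁻¹ := by
  rw [rot, rot, mul_inv_rev, refl_inv, refl_inv]

theorem word_alt_two_mul : ∀ (i : ℕ) (s t : P.S),
    word P (altList s t (2 * i)) = rot P s t ^ i ∧ word P (altList s t (2 * i + 1)) = rot P s t ^ i * refl P s := by
  intro i
  induction i with
  | zero => intro s t; exact ⟨by simp [altList], by simp [altList]⟩
  | succ i ih =>
    intro s t
    have st : ∀ (n : ℕ) (a b : P.S), altList a b (n + 2) = a :: b :: altList a b n := fun _ _ _ => rfl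
    constructor
    · rw [show 2 * (i + 1) = 2 * i + 2 by omega, st, word_cons, word_cons, (ih s t).1, ← mul_assoc, pow_succ']
      rfl
    · rw [show 2 * (i + 1) + 1 = (2 * i + 1) + 2 by omega, st, word_cons, word_cons, (ih s t).2, pow_succ', rot]
      simp only [mul_assoc]

theorem ne_rot_pow (s t : P.S) (i j : ℕ) : rot P s t ^ i ≠ rot P s t ^ j * refl P s := by
  intro h
  have h1 := len_word_parity P (altList s t (2 * i))
  have h2 := len_word_parity P (altList s t (2 * j + 1))
  rw [(word_alt_two_mul P i s t).1] at h1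
  rw [(word_alt_two_mul P j s t).2, ← h] at h2
  have hl : ∀ (n : ℕ) (a b : P.S), (altList a b n).length = n := by
    intro n; induction n with
    | zero => intro a b; rfl
    | succ n ih => intro a b; simp [altList, ih]
  rw [hl] at h1 h2
  omega

theorem altList_length {α : Type*} : ∀ (n : ℕ) (a b : α), (altList a b n).length = n := by
  intro n; induction n with
  | zero => intro a b; rfl
  | succ n ih => intro a b; simp [altList, ih]

theorem altList_concat {α : Type*} : ∀ (n : ℕ) (a b : α),
    altList a b (2 * n + 1) = altList a b (2 * n) ++ [a] ∧ altList a b (2 * n + 2) = altList a b (2 * n + 1) ++ [b] := by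
  intro n
  induction n with
  | zero => intro a b; simp [altList]
  | succ n ih =>
    intro a b
    have h1 : altList a b (2 * (n + 1) + 1) = altList a b (2 * (n + 1)) ++ [a] := by
      show a :: altList b a (2 * n + 2) = (a :: altList b a (2 * n + 1)) ++ [a]
      rw [(ih b a).2]; rfl
    refine ⟨h1, ?_⟩
    show a :: altList b a (2 * (n + 1) + 1) = (a :: altList b a (2 * (n + 1))) ++ [b]
    have h2 : altList b a (2 * (n + 1) + 1) = altList b a (2 * (n + 1)) ++ [b] := by
      show b :: altList a b (2 * n + 2) = (b :: altList a b (2 * n + 1)) ++ [b]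
      rw [(ih a b).2]; rfl
    rw [h2]; rfl

theorem altList_reverse {α : Type*} : ∀ (n : ℕ) (a b : α),
    (altList a b (2 * n)).reverse = altList b a (2 * n) ∧
      (altList a b (2 * n + 1)).reverse = altList a b (2 * n + 1) := by
  intro n
  induction n with
  | zero => intro a b; simp [altList]
  | succ n ih =>
    intro a b
    have e1 : (altList a b (2 * (n + 1))).reverse = altList b a (2 * (n + 1)) := by
      show (altList a b (2 * n + 2)).reverse = _
      rw [(altList_concat n a b).2, List.reverse_append, (ih a b).2]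
      rfl
    refine ⟨e1, ?_⟩
    conv_lhs => rw [(altList_concat (n + 1) a b).1, List.reverse_append, e1]
    rfl

variable {P}

/-- two distinct distinguished generators which are all of them -/
structure TwoGen (s t : P.S) : Prop where
  ne : s ≠ t
  cases : ∀ u, u = s ∨ u = t

namespace TwoGen

variable {s t : P.S}

theorem symm (h : TwoGen s t) : TwoGen t s := ⟨h.ne.symm, fun u => (h.cases u).symm⟩

theorem order_swap (s t : P.S) : orderOf (rot P t s) = orderOf (rot P s t) := by rw [rot_swap, orderOf_inv]

theorem two_le [Finite G] (h : TwoGen s t) : 2 ≤ orderOf (rot P s t) := by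
  by_contra hcon
  have h1 : orderOf (rot P s t) = 1 := by have := orderOf_pos (rot P s t); omega
  rw [orderOf_eq_one_iff, rot, mul_eq_one_iff_eq_inv, refl_inv] at h1
  exact h.ne (refl_injective P h1)

/-- a reduced word is alternating -/
theorem eq_alt (h : TwoGen s t) : ∀ l : List P.S, len P (word P l) = l.length →
    l = altList s t l.length ∨ l = altList t s l.length := by
  intro l
  induction l with
  | nil => intro _; left; rfl
  | cons a l ih =>
    intro hl
    have hl' := len_word_tail P hl
    have hnd : ∀ c l', l = c :: l' → a ≠ c := by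
      rintro c l' rfl rfl
      rw [refl_inj_cancel] at hl
      have := len_word_le P l'
      simp at hl
      omega
    cases l with
    | nil => rcases h.cases a with rfl | rfl <;> simp [altList]
    | cons c l' =>
      rcases ih hl' with e | e
      · have hc : c = s := by simp [altList] at e; exact e.1
        have ha : a = t := (h.cases a).resolve_left (fun ha => hnd c l' rfl (ha.trans hc.symm))
        right
        rw [List.length_cons, altList, ← e, ha]
      · have hc : c = t := by simp [altList] at e; exact e.1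
        have ha : a = s := (h.cases a).resolve_right (fun ha => hnd c l' rfl (ha.trans hc.symm))
        left
        rw [List.length_cons, altList, ← e, ha]

theorem alt_reduced [Finite G] (h : TwoGen s t) {n : ℕ} (hn : n ≤ orderOf (rot P s t)) :
    len P (word P (altList s t n)) = n := by
  have hle := len_word_le P (altList s t n)
  rw [altList_length] at hle
  refine le_antisymm hle (not_lt.1 fun hlt => ?_)
  obtain ⟨l, hl, hlen⟩ := exists_reduced P (word P (altList s t n))
  have hpar := len_word_parity P (altList s t n)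
  rw [altList_length] at hpar
  rw [← hl] at hlt hpar
  have hl' : len P (word P l) = l.length := by rw [hl]; exact hlen.symm
  rw [hl'] at hlt hpar
  have hr : rot P t s = (rot P s t)⁻¹ := rot_swap P s t
  rcases Nat.even_or_odd' n with ⟨i, rfl | rfl⟩
  · obtain ⟨i', hi'⟩ : ∃ i', l.length = 2 * i' := ⟨l.length / 2, by omega⟩
    rw [(word_alt_two_mul P i s t).1] at hl
    rcases h.eq_alt l hl' with e | e <;> rw [e, hi'] at hl
    · rw [(word_alt_two_mul P i' s t).1] at hl
      have := pow_injOn_Iio_orderOf (x := rot P s t) (show i' < orderOf (rot P s t) by omega)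
        (show i < orderOf (rot P s t) by omega) hl
      omega
    · rw [(word_alt_two_mul P i' t s).1, hr, inv_pow, inv_eq_iff_mul_eq_one, ← pow_add] at hl
      exact pow_ne_one_of_lt_orderOf (by omega) (by omega) hl
  · obtain ⟨i', hi'⟩ : ∃ i', l.length = 2 * i' + 1 := ⟨l.length / 2, by omega⟩
    rw [(word_alt_two_mul P i s t).2] at hl
    rcases h.eq_alt l hl' with e | e <;> rw [e, hi'] at hl
    · rw [(word_alt_two_mul P i' s t).2] at hl
      have := pow_injOn_Iio_orderOf (x := rot P s t) (show i' < orderOf (rot P s t) by omega)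
        (show i < orderOf (rot P s t) by omega)
        (mul_right_cancel hl)
      omega
    · have ht : refl P t = (rot P s t)⁻¹ * refl P s := by
        rw [← rot_swap, rot, mul_assoc, refl_mul_self, mul_one]
      rw [(word_alt_two_mul P i' t s).2, ht, ← mul_assoc, hr, ← pow_succ, inv_pow] at hl
      have := mul_right_cancel hl
      rw [inv_eq_iff_mul_eq_one, ← pow_add] at this
      exact pow_ne_one_of_lt_orderOf (by omega) (by omega) this

/-- index set of the Weyl group -/
abbrev Idx (s t : P.S) : Type := Fin (orderOf (rot P s t)) × Bool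

/-- chosen reduced words -/
noncomputable def idxList (s t : P.S) : Idx s t → List P.S
  | (i, false) => if 2 * i.1 ≤ orderOf (rot P s t) then altList s t (2 * i.1)
      else altList t s (2 * (orderOf (rot P s t) - i.1))
  | (i, true) => if 2 * i.1 + 1 ≤ orderOf (rot P s t) then altList s t (2 * i.1 + 1)
      else altList t s (2 * (orderOf (rot P s t) - 1 - i.1) + 1)

/-- the element of the Weyl group of an index -/
noncomputable def idxElt (s t : P.S) : Idx s t → Weyl P
  | (i, false) => rot P s t ^ i.1
  | (i, true) => rot P s t ^ i.1 * refl P s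

theorem word_idxList (κ : Idx s t) : word P (idxList s t κ) = idxElt s t κ := by
  obtain ⟨i, β⟩ := κ
  have hi := i.2
  have hinv : ∀ k, k + i.1 = orderOf (rot P s t) → rot P t s ^ k = rot P s t ^ i.1 := by
    intro k hk
    rw [rot_swap, inv_pow, inv_eq_iff_mul_eq_one, ← pow_add, hk, pow_orderOf_eq_one]
  cases β
  · simp only [idxList, idxElt]
    split_ifs with hle
    · exact (word_alt_two_mul P _ s t).1
    · rw [(word_alt_two_mul P _ t s).1]; exact hinv _ (by omega)
  · simp only [idxList, idxElt]
    split_ifs with hle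
    · exact (word_alt_two_mul P _ s t).2
    · rw [(word_alt_two_mul P _ t s).2, ← hinv (orderOf (rot P s t) - 1 - i.1 + 1) (by omega), pow_succ,
        mul_assoc]
      congr 1
      rw [rot, mul_assoc, refl_mul_self, mul_one]

theorem length_idxList (κ : Idx s t) : (idxList s t κ).length ≤ orderOf (rot P s t) := by
  obtain ⟨i, β⟩ := κ
  have hi := i.2
  cases β <;> simp only [idxList] <;> split_ifs with hle <;> rw [altList_length] <;> omega

theorem idxList_reduced [Finite G] (h : TwoGen s t) (κ : Idx s t) :
    len P (word P (idxList s t κ)) = (idxList s t κ).length := by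
  have hm := order_swap s t
  obtain ⟨i, β⟩ := κ
  have hi := i.2
  cases β <;> simp only [idxList] <;> split_ifs with hle <;> rw [altList_length]
  · exact h.alt_reduced hle
  · exact h.symm.alt_reduced (by omega)
  · exact h.alt_reduced hle
  · exact h.symm.alt_reduced (by omega)

theorem idxElt_bijective [Finite G] (h : TwoGen s t) : Function.Bijective (idxElt s t) := by
  set m := orderOf (rot P s t) with hm
  have hpos : 0 < m := orderOf_pos _
  constructor
  · rintro ⟨i, β⟩ ⟨j, γ⟩ he
    cases β <;> cases γ <;> simp only [idxElt] at he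
    · rw [Prod.mk.injEq]; exact ⟨Fin.ext (pow_injOn_Iio_orderOf (x := rot P s t) i.2 j.2 he), rfl⟩
    · exact absurd he (ne_rot_pow P s t _ _)
    · exact absurd he.symm (ne_rot_pow P s t _ _)
    · rw [Prod.mk.injEq]
      exact ⟨Fin.ext (pow_injOn_Iio_orderOf (x := rot P s t) i.2 j.2 (mul_right_cancel he)), rfl⟩
  · intro w
    obtain ⟨l, rfl, hl⟩ := exists_reduced P w
    have hr : rot P t s = rot P s t ^ (m - 1) := by
      rw [rot_swap, inv_eq_iff_mul_eq_one, ← pow_succ', show m - 1 + 1 = m by omega, pow_orderOf_eq_one]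
    have ht : refl P t = rot P t s * refl P s := by rw [rot, mul_assoc, refl_mul_self, mul_one]
    have red : ∀ k, rot P s t ^ k = rot P s t ^ (k % m) := fun k => (pow_mod_orderOf _ k).symm
    rcases h.eq_alt l hl.symm with e | e <;> rw [e] <;> rcases Nat.even_or_odd' l.length with ⟨i, hi | hi⟩ <;> rw [hi]
    · exact ⟨(⟨i % m, Nat.mod_lt _ hpos⟩, false), by rw [(word_alt_two_mul P i s t).1, red i]; rfl⟩
    · exact ⟨(⟨i % m, Nat.mod_lt _ hpos⟩, true), by rw [(word_alt_two_mul P i s t).2, red i]; rfl⟩
    · exact ⟨(⟨(m - 1) * i % m, Nat.mod_lt _ hpos⟩, false), by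
        rw [(word_alt_two_mul P i t s).1, hr, ← pow_mul, red]; rfl⟩
    · exact ⟨(⟨(m - 1) * (i + 1) % m, Nat.mod_lt _ hpos⟩, true), by
        rw [(word_alt_two_mul P i t s).2, ht, ← mul_assoc, ← pow_succ, hr, ← pow_mul, red]; rfl⟩

theorem braid (s t : P.S) :
    word P (altList s t (orderOf (rot P s t))) = word P (altList t s (orderOf (rot P s t))) := by
  set m := orderOf (rot P s t) with hm
  rcases Nat.even_or_odd' m with ⟨k, hk | hk⟩
  · rw [hk, (word_alt_two_mul P k s t).1, (word_alt_two_mul P k t s).1, rot_swap P s t, inv_pow,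
      eq_inv_iff_mul_eq_one, ← pow_add, ← two_mul, ← hk, hm, pow_orderOf_eq_one]
  · have ht : refl P t = rot P t s * refl P s := by rw [rot, mul_assoc, refl_mul_self, mul_one]
    rw [hk, (word_alt_two_mul P k s t).2, (word_alt_two_mul P k t s).2, ht, ← mul_assoc, ← pow_succ, rot_swap P s t,
      inv_pow]
    congr 1
    rw [eq_inv_iff_mul_eq_one, ← pow_add, show k + (k + 1) = 2 * k + 1 by omega, ← hk, hm, pow_orderOf_eq_one]

end TwoGen

/-! ### Incidence operators -/

variable (P)

open Classical in
/-- the operator of a cell on `G ⧸ B` -/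
noncomputable def opM (w : Weyl P) : Matrix (G ⧸ P.B) (G ⧸ P.B) ℝ :=
  Matrix.of fun x y => if (x.out)⁻¹ * y.out ∈ cell P w then 1 else 0

open Classical in
/-- the valency of a cell -/
noncomputable def valency (w : Weyl P) : ℕ :=
  Nat.card {y : G ⧸ P.B // (((1 : G) : G ⧸ P.B).out)⁻¹ * y.out ∈ cell P w}

theorem rel_iff {w : Weyl P} {g h : G} (x y : G ⧸ P.B) (hx : (g : G ⧸ P.B) = x) (hy : (h : G ⧸ P.B) = y) :
    x.out⁻¹ * y.out ∈ cell P w ↔ g⁻¹ * h ∈ cell P w := by
  subst hx hy
  obtain ⟨b, hb⟩ := QuotientGroup.mk_out_eq_mul P.B g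
  obtain ⟨c, hc⟩ := QuotientGroup.mk_out_eq_mul P.B h
  rw [hb, hc]
  constructor
  · intro hh
    have := mul_mem_cell P hh b.2 (P.B.inv_mem c.2)
    simpa [mul_assoc] using this
  · intro hh
    have := mul_mem_cell P hh (P.B.inv_mem b.2) c.2
    simpa [mul_assoc] using this


variable [Finite G]

theorem row_card (w : Weyl P) (x : G ⧸ P.B) :
    Nat.card {y : G ⧸ P.B // x.out⁻¹ * y.out ∈ cell P w} = valency P w := by
  rw [valency]
  refine (Nat.card_congr ((MulAction.toPerm x.out : Equiv.Perm (G ⧸ P.B)).subtypeEquiv fun y => ?_)).symm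
  rw [rel_iff P ((1 : G) : G ⧸ P.B) y (g := 1) (h := y.out) rfl (QuotientGroup.out_eq' y),
    rel_iff P x (MulAction.toPerm x.out y) (g := x.out) (h := x.out * y.out) (QuotientGroup.out_eq' x) (by
      show _ = x.out • y
      conv_rhs => rw [← QuotientGroup.out_eq' y]
      rfl),
    inv_one, one_mul, inv_mul_cancel_left]

theorem opM_one [DecidableEq (G ⧸ P.B)] : opM P 1 = 1 := by
  ext x y
  rw [opM, Matrix.of_apply, Matrix.one_apply]
  by_cases h : x = y
  · subst h; rw [if_pos rfl, if_pos]; rw [inv_mul_cancel, mem_cell_one]; exact P.B.one_mem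
  · rw [if_neg h, if_neg]
    rw [mem_cell_one]
    intro hh
    exact h (by rw [← QuotientGroup.out_eq' x, ← QuotientGroup.out_eq' y]; exact QuotientGroup.eq.2 hh)

variable [Fintype (G ⧸ P.B)]

theorem opM_mul_up {u : P.S} {w : Weyl P} (h : len P w ≤ len P (refl P u * w)) :
    opM P (refl P u) * opM P w = opM P (refl P u * w) := by
  classical
  ext x y
  rw [Matrix.mul_apply]
  simp only [opM, Matrix.of_apply, mul_ite, mul_one, mul_zero, ← ite_and]
  rw [← Finset.sum_filter, Finset.sum_const, nsmul_one]
  split_ifs with hxy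
  · suffices hc : (Finset.univ.filter fun z : G ⧸ P.B => z.out⁻¹ * y.out ∈ cell P w ∧
        x.out⁻¹ * z.out ∈ cell P (refl P u)).card = 1 by rw [hc]; simp
    rw [Finset.card_eq_one]
    obtain ⟨a, ha, b, hb, hab⟩ := exists_factor P hxy
    refine ⟨((x.out * a : G) : G ⧸ P.B), Finset.eq_singleton_iff_unique_mem.2 ⟨?_, ?_⟩⟩
    · simp only [Finset.mem_filter, Finset.mem_univ, true_and]
      rw [rel_iff P _ y rfl (QuotientGroup.out_eq' y), rel_iff P x _ (QuotientGroup.out_eq' x) rfl,
        inv_mul_cancel_left, mul_inv_rev, mul_assoc, hab, inv_mul_cancel_left]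
      exact ⟨hb, ha⟩
    · intro z hz
      simp only [Finset.mem_filter, Finset.mem_univ, true_and] at hz
      obtain ⟨hz1, hz2⟩ := hz
      have hd : a⁻¹ * (x.out⁻¹ * z.out) ∈ P.B := by
        have ha' : a⁻¹ ∈ cell P (refl P u) := by simpa [refl_inv] using inv_mem_cell P ha
        rcases mul_mem_or P ha' hz2 with h1 | h1
        · rwa [refl_mul_self, mem_cell_one] at h1
        · exfalso
          have h2 := mul_mem_of_len_le P h h1 hz1
          rw [show a⁻¹ * (x.out⁻¹ * z.out) * (z.out⁻¹ * y.out) = a⁻¹ * (x.out⁻¹ * y.out) by group, hab,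
            inv_mul_cancel_left] at h2
          have h3 := cell_disjoint P h2 hb
          exact refl_ne_one P u (mul_right_cancel (h3.trans (one_mul w).symm))
      conv_lhs => rw [← QuotientGroup.out_eq' z]
      refine (QuotientGroup.eq.2 ?_).symm
      rw [mul_inv_rev, mul_assoc]
      exact hd
  · have hempty : (Finset.univ.filter fun z : G ⧸ P.B => z.out⁻¹ * y.out ∈ cell P w ∧
        x.out⁻¹ * z.out ∈ cell P (refl P u)) = ∅ := by
      refine Finset.filter_eq_empty_iff.2 fun z _ hz => hxy ?_
      have h2 := mul_mem_of_len_le P h hz.2 hz.1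
      rwa [show (x.out)⁻¹ * z.out * (z.out⁻¹ * y.out) = x.out⁻¹ * y.out by group] at h2
    rw [hempty]; simp

theorem opM_sq [DecidableEq (G ⧸ P.B)] (u : P.S) : opM P (refl P u) * opM P (refl P u) =
    ((valency P (refl P u) : ℝ) - 1) • opM P (refl P u) + (valency P (refl P u) : ℝ) • (1 : Matrix _ _ ℝ) := by
  classical
  have hsym : ∀ g : G, g ∈ cell P (refl P u) → g⁻¹ ∈ cell P (refl P u) := fun g hg => by
    simpa [refl_inv] using inv_mem_cell P hg
  ext x y
  rw [Matrix.mul_apply, Matrix.add_apply, Matrix.smul_apply, Matrix.smul_apply, Matrix.one_apply]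
  simp only [opM, Matrix.of_apply, mul_ite, mul_one, mul_zero, ← ite_and, smul_eq_mul]
  rw [← Finset.sum_filter, Finset.sum_const, nsmul_one]
  have hrow := row_card P (refl P u) x
  rw [Nat.card_eq_fintype_card, Fintype.card_subtype] at hrow
  by_cases hxy : x = y
  · subst hxy
    have hno : ¬ (x.out⁻¹ * x.out ∈ cell P (refl P u)) := by
      intro hh
      have := cell_disjoint P hh ((mem_cell_one P).2 (by rw [inv_mul_cancel]; exact P.B.one_mem))
      exact refl_ne_one P u this
    rw [if_neg hno, if_pos rfl, zero_add]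
    rw [← hrow]
    congr 2
    refine Finset.filter_congr fun z _ => ⟨fun h => h.2, fun h => ⟨?_, h⟩⟩
    simpa [mul_inv_rev] using hsym _ h
  rw [if_neg hxy, add_zero]
  split_ifs with hrel
  · have hcard : (Finset.univ.filter fun z : G ⧸ P.B => z.out⁻¹ * y.out ∈ cell P (refl P u) ∧
        x.out⁻¹ * z.out ∈ cell P (refl P u)) =
        (Finset.univ.filter fun z : G ⧸ P.B => x.out⁻¹ * z.out ∈ cell P (refl P u)).erase y := by
      ext z
      simp only [Finset.mem_filter, Finset.mem_univ, true_and, Finset.mem_erase]
      constructor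
      · rintro ⟨h1, h2⟩
        refine ⟨?_, h2⟩
        rintro rfl
        exact refl_ne_one P u (cell_disjoint P h1 ((mem_cell_one P).2 (by rw [inv_mul_cancel]; exact P.B.one_mem)))
      · rintro ⟨hne, h2⟩
        refine ⟨?_, h2⟩
        have h2' := hsym _ h2
        rcases mul_mem_or P h2' hrel with h | h <;>
          rw [show ((x.out)⁻¹ * z.out)⁻¹ * (x.out⁻¹ * y.out) = z.out⁻¹ * y.out by group] at h
        · rw [refl_mul_self, mem_cell_one] at h
          exact absurd (by rw [← QuotientGroup.out_eq' z, ← QuotientGroup.out_eq' y]; exact QuotientGroup.eq.2 h) hne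
        · exact h
    rw [hcard, Finset.card_erase_of_mem (by simp [hrel]), hrow]
    have h1 : 1 ≤ valency P (refl P u) := by
      rw [← hrow]; exact Finset.card_pos.2 ⟨y, by simp [hrel]⟩
    rw [Nat.cast_sub h1]; simp
  · have hempty : (Finset.univ.filter fun z : G ⧸ P.B => z.out⁻¹ * y.out ∈ cell P (refl P u) ∧
        x.out⁻¹ * z.out ∈ cell P (refl P u)) = ∅ := by
      refine Finset.filter_eq_empty_iff.2 fun z _ hz => ?_
      rcases mul_mem_or P hz.2 hz.1 with h | h <;>
        rw [show (x.out)⁻¹ * z.out * (z.out⁻¹ * y.out) = x.out⁻¹ * y.out by group] at h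
      · rw [refl_mul_self, mem_cell_one] at h
        exact hxy (by rw [← QuotientGroup.out_eq' x, ← QuotientGroup.out_eq' y]; exact QuotientGroup.eq.2 h)
      · exact hrel h
    rw [hempty]; simp

theorem opM_row_sum (w : Weyl P) (x : G ⧸ P.B) : ∑ y, opM P w x y = valency P w := by
  classical
  simp only [opM, Matrix.of_apply, Finset.sum_boole]
  rw [← row_card P w x, Nat.card_eq_fintype_card, Fintype.card_subtype]

theorem valency_up {u : P.S} {w : Weyl P} (h : len P w ≤ len P (refl P u * w)) :
    valency P (refl P u * w) = valency P (refl P u) * valency P w := by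
  have h1 := opM_row_sum P (refl P u * w) (((1 : G) : G ⧸ P.B))
  rw [← opM_mul_up P h] at h1
  simp only [Matrix.mul_apply] at h1
  rw [Finset.sum_comm] at h1
  simp only [← Finset.mul_sum, opM_row_sum, ← Finset.sum_mul] at h1
  exact_mod_cast h1.symm

theorem valency_one : valency P 1 = 1 := by
  classical
  have h1 := opM_row_sum P 1 (((1 : G) : G ⧸ P.B))
  rw [opM_one, Finset.sum_eq_single (((1 : G) : G ⧸ P.B))] at h1
  · rw [Matrix.one_apply_eq] at h1; exact_mod_cast h1.symm
  · exact fun y _ hy => Matrix.one_apply_ne hy.symm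
  · exact fun h => absurd (Finset.mem_univ _) h

theorem two_le_valency (u : P.S) : 2 ≤ valency P (refl P u) := by
  classical
  obtain ⟨a, ha, a', ha', haa⟩ := exists_refl_square P u
  have hrow := row_card P (refl P u) ((1 : G) : G ⧸ P.B)
  rw [Nat.card_eq_fintype_card, Fintype.card_subtype] at hrow
  rw [← hrow]
  refine Finset.one_lt_card.2 ⟨(a : G ⧸ P.B), ?_, ((a * a' : G) : G ⧸ P.B), ?_, fun e => ?_⟩
  · simp only [Finset.mem_filter, Finset.mem_univ, true_and]
    rw [rel_iff P _ _ rfl rfl, inv_one, one_mul]; exact ha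
  · simp only [Finset.mem_filter, Finset.mem_univ, true_and]
    rw [rel_iff P _ _ rfl rfl, inv_one, one_mul]; exact haa
  · have := QuotientGroup.eq.1 e
    rw [inv_mul_cancel_left] at this
    exact refl_ne_one P u (cell_disjoint P ha' ((mem_cell_one P).2 this))

theorem trace_opM_mul (u w : Weyl P) [Decidable (w = u⁻¹)] :
    (opM P u * opM P w).trace = if w = u⁻¹ then (Fintype.card (G ⧸ P.B) : ℝ) * valency P u else 0 := by
  classical
  simp only [Matrix.trace, Matrix.diag_apply, Matrix.mul_apply]
  split_ifs with h
  · have e : ∀ x : G ⧸ P.B, ∑ z, opM P u x z * opM P w z x = valency P u := by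
      intro x
      rw [← opM_row_sum P u x]
      refine Finset.sum_congr rfl fun z _ => ?_
      simp only [opM, Matrix.of_apply]
      by_cases hz : x.out⁻¹ * z.out ∈ cell P u
      · rw [if_pos hz, one_mul, if_pos]
        have := inv_mem_cell P hz
        rw [h]; simpa [mul_inv_rev] using this
      · rw [if_neg hz, zero_mul]
    rw [Finset.sum_congr rfl fun x _ => e x, Finset.sum_const, Finset.card_univ, nsmul_eq_mul]
  · refine Finset.sum_eq_zero fun x _ => Finset.sum_eq_zero fun z _ => ?_
    simp only [opM, Matrix.of_apply]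
    by_cases hz : x.out⁻¹ * z.out ∈ cell P u
    · rw [if_pos hz, one_mul, if_neg]
      intro hz'
      have := inv_mem_cell P hz
      rw [mul_inv_rev, inv_inv] at this
      exact h (cell_disjoint P hz' this)
    · rw [if_neg hz, zero_mul]

end Cfsg.Agent.FeitHigman
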